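import Cfsg.Agent.H99.TensorS.Purity

/-!
Two symplectic factors with the transvections of the second only: radicals and purity.
-/

set_option autoImplicit false
set_option linter.unusedSectionVars false

namespace Cfsg.Agent.H5.C7.Even

open Matrix
open Cfsg.Agent.H99.Tensor Cfsg.Agent.H99.TensorS
open scoped Kronecker

variable {F : Type*} [Field F] {α : Type} [Fintype α] [DecidableEq α] {b : ℕ} {JA : Matrix α α F}
  {JB : Matrix (Fin b) (Fin b) F}

local notation "Ix" => α × Fin b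

/-- The setting: a group of isometries of a quadratic form containing the transvections of the second factor. -/
structure OvR (JA : Matrix α α F) (JB : Matrix (Fin b) (Fin b) F) (Q : (α × Fin b → F) → F)
    (M : Subgroup (GL (α × Fin b) F)) : Prop where
  sA : SympMat JA
  sB : SympMat JB
  six : 6 ≤ b
  qpolar : ∀ u v, Q (u + v) = Q u + Q v + bf (JA ⊗ₖ JB) u v
  qpure : ∀ (x : α → F) (w : Fin b → F), Q (Cfsg.Agent.H99.TensorS.pv x w) = 0
  qiso : ∀ y ∈ M, ∀ v, Q ((y : Matrix (α × Fin b) (α × Fin b) F) *ᵥ v) = Q v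
  right : ∀ (w : Fin b → F) (d : F), InM M ((1 : Matrix α α F) ⊗ₖ (1 + d • rk JB w w))

variable {Q : (α × Fin b → F) → F} {M : Subgroup (GL (α × Fin b) F)} (H : OvR JA JB Q M)
include H

theorem OvR.skewJ : (JA ⊗ₖ JB)ᵀ = JA ⊗ₖ JB := by
  rw [← kroneckerMap_transpose, H.sA.skew, H.sB.skew]
  ext p r
  simp [kroneckerMap_apply]

theorem OvR.unitJ : IsUnit (JA ⊗ₖ JB).det := by
  rw [det_kronecker]
  exact (H.sA.unit.pow _).mul (H.sB.unit.pow _)

theorem OvR.unit {X : Matrix Ix Ix F} (hX : InM M X) : adj (JA ⊗ₖ JB) (JA ⊗ₖ JB) X * X = 1 := by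
  obtain ⟨y, hy, rfl⟩ := hX
  have h : ∀ u v, bf (JA ⊗ₖ JB) ((y : Matrix Ix Ix F) *ᵥ u) ((y : Matrix Ix Ix F) *ᵥ v) = bf (JA ⊗ₖ JB) u v := by
    intro u v
    have e := H.qiso y hy (u + v)
    rw [mulVec_add, H.qpolar, H.qpolar, H.qiso y hy, H.qiso y hy] at e
    linear_combination e
  have e : (y : Matrix Ix Ix F)ᵀ * (JA ⊗ₖ JB) * (y : Matrix Ix Ix F) = JA ⊗ₖ JB := by
    refine Matrix.ext fun i j => ?_
    have := h (Pi.single i 1) (Pi.single j 1)
    rw [bf, bf, ← vecMul_transpose, vecMul_vecMul, dotProduct_mulVec, vecMul_vecMul] at this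
    simpa [dotProduct_single, single_vecMul] using this
  rw [adj, Matrix.mul_assoc, Matrix.mul_assoc, ← Matrix.mul_assoc (y : Matrix Ix Ix F)ᵀ, e,
    nonsing_inv_mul _ H.unitJ]

theorem OvR.unit' {X : Matrix Ix Ix F} (hX : InM M X) : X * adj (JA ⊗ₖ JB) (JA ⊗ₖ JB) X = 1 :=
  mul_eq_one_comm.1 (H.unit hX)

theorem OvR.inv {X : Matrix Ix Ix F} (hX : InM M X) : InM M (adj (JA ⊗ₖ JB) (JA ⊗ₖ JB) X) :=
  hX.inv (H.unit' hX)

theorem OvR.conj {A X : Matrix Ix Ix F} (hA : InM M (1 + A)) (hX : InM M X) :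
    InM M (1 + X * A * adj (JA ⊗ₖ JB) (JA ⊗ₖ JB) X) :=
  hA.conj hX (H.unit' hX)

theorem OvR.trans (w : Fin b → F) (d : F) : InM M (1 + (d • (1 : Matrix α α F)) ⊗ₖ rk JB w w) := by
  have := H.right w d
  rwa [kronecker_add, one_kronecker_one, kronecker_smul, ← smul_kronecker] at this

/-- The root elements of the second factor. -/
theorem OvR.root {w η : Fin b → F} (hη : bf JB w η = 0) (c : F) :
    InM M (1 + (1 : Matrix α α F) ⊗ₖ nil JB w η c) := by
  have hη' := H.sB.zero_comm.1 hη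
  have := ((H.right (η + w) 1).mul (H.right η (-1))).mul (H.right w (c - 1))
  rw [← mul_kronecker_mul, ← mul_kronecker_mul, Matrix.one_mul, Matrix.one_mul] at this
  rw [← one_kronecker_one (α := F) (m := α) (n := Fin b), ← kronecker_add]
  convert this using 2
  simp only [nil, rk_add_left, rk_add_right, Matrix.mul_add, Matrix.add_mul, Matrix.one_mul, Matrix.mul_one,
    Matrix.smul_mul, Matrix.mul_smul, rk_mul, hη, hη', H.sB.self, zero_smul, smul_zero, add_zero]
  module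

theorem OvR.right_move {a c : Fin b → F} {μ : F} (hca : bf JB c a ≠ 0) (hμ : μ ≠ 0) :
    ∃ k : Matrix (Fin b) (Fin b) F, InM M ((1 : Matrix α α F) ⊗ₖ k) ∧ adj JB JB k * k = 1 ∧ k *ᵥ a = μ • c := by
  obtain ⟨d, e, h⟩ := exists_move H.sB hca hμ
  refine ⟨_, ?_, ?_, h⟩
  · have := (H.right a e).mul (H.right c d)
    rwa [← mul_kronecker_mul, Matrix.one_mul] at this
  · rw [adj_mul H.sB.unit, Matrix.mul_assoc, ← Matrix.mul_assoc (adj JB JB (1 + e • rk JB a a)),
      trans_unitary H.sB, Matrix.one_mul, trans_unitary H.sB]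

/-- The second factor is transitive on non-zero vectors. -/
theorem OvR.right_map {a c : Fin b → F} (ha : a ≠ 0) (hc : c ≠ 0) {μ : F} (hμ : μ ≠ 0) :
    ∃ k : Matrix (Fin b) (Fin b) F, InM M ((1 : Matrix α α F) ⊗ₖ k) ∧ adj JB JB k * k = 1 ∧ k *ᵥ a = μ • c := by
  obtain ⟨u, hua, huc⟩ := H.sB.exists_common₂ ha hc
  obtain ⟨k₁, m₁, i₁, e₁⟩ := H.right_move hua one_ne_zero
  obtain ⟨k₂, m₂, i₂, e₂⟩ := H.right_move (a := u) (c := c) (fun h => huc (H.sB.zero_comm.1 h)) hμ
  refine ⟨k₂ * k₁, ?_, ?_, ?_⟩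
  · have := m₂.mul m₁
    rwa [← mul_kronecker_mul, Matrix.one_mul] at this
  · rw [adj_mul H.sB.unit, Matrix.mul_assoc, ← Matrix.mul_assoc (adj JB JB k₂), i₂, Matrix.one_mul, i₁]
  · rw [← mulVec_mulVec, e₁, one_smul, e₂]

/-- Conjugation of a product element by the two factors. -/
theorem OvR.conj_kron {G : Matrix α α F} {N : Matrix (Fin b) (Fin b) F} (h : InM M (1 + G ⊗ₖ N))
    {g : Matrix α α F} {k : Matrix (Fin b) (Fin b) F} (hX : InM M (g ⊗ₖ k)) :
    InM M (1 + (g * G * adj JA JA g) ⊗ₖ (k * N * adj JB JB k)) := by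
  have := H.conj h hX
  rwa [adj_kron, ← mul_kronecker_mul, ← mul_kronecker_mul] at this


theorem OvR.adj_down (A : Matrix Ix α F) : adj (JA ⊗ₖ JB) JA (adj JA (JA ⊗ₖ JB) A) = -A := by
  rw [adj_adj H.sA.unit H.unitJ (ε₁ := -1) (ε₂ := 1) (by rw [H.sA.skew, neg_one_smul])
    (by rw [H.skewJ, one_smul]) (by ring), mul_one, neg_one_smul]

theorem OvR.adjA_mul_iso (X : Matrix Ix Ix F) (A : Matrix Ix α F) :
    adj JA (JA ⊗ₖ JB) (X * A) = adj JA (JA ⊗ₖ JB) A * adj (JA ⊗ₖ JB) (JA ⊗ₖ JB) X :=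
  adj_mul H.unitJ X A

theorem OvR.adj_phi (w : Fin b → F) : adj (JA ⊗ₖ JB) JA (phi α JB w) = -lft α w := by
  rw [← adjA_lft H.sA, H.adj_down]

theorem OvR.adjA_lft_right (A : Matrix Ix α F) (w : Fin b → F) :
    adj JA (JA ⊗ₖ JB) A * lft α w = -adj JA JA (phi α JB w * A) := by
  rw [adj_mul H.unitJ, H.adj_phi, Matrix.mul_neg, neg_neg]

theorem OvR.el_mul {z : Fin b → F} {A A' : Matrix Ix α F} (G G' : Matrix α α F)
    (hA : phi α JB z * A = 0) (hA' : phi α JB z * A' = 0) :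
    el JA JB z A G * el JA JB z A' G' =
      el JA JB z (A + A') (G + G' + adj JA (JA ⊗ₖ JB) A * A') := by
  have h1 : phi α JB z * lft α z = (0 : Matrix α α F) := by rw [phi_lft, H.sB.self, zero_smul]
  have h2 : adj JA (JA ⊗ₖ JB) A * lft α z = 0 := by rw [H.adjA_lft_right, hA, adj_zero, neg_zero]
  have l1 : ∀ T : Matrix α Ix F, phi α JB z * (A' * T) = 0 := fun T => by
    rw [← Matrix.mul_assoc, hA', Matrix.zero_mul]
  have l2 : ∀ T : Matrix α Ix F, phi α JB z * (lft α z * T) = 0 := fun T => by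
    rw [← Matrix.mul_assoc, h1, Matrix.zero_mul]
  have l3 : ∀ T : Matrix α Ix F, adj JA (JA ⊗ₖ JB) A * (lft α z * T) = 0 := fun T => by
    rw [← Matrix.mul_assoc, h2, Matrix.zero_mul]
  simp only [el, Matrix.mul_add, Matrix.add_mul, Matrix.mul_one, Matrix.one_mul, Matrix.mul_assoc, l1, l2, l3,
    Matrix.mul_zero, adj_add]
  abel

/-- Conjugation of an element of a radical. -/
theorem OvR.el_conj {z z₂ : Fin b → F} {X : Matrix Ix Ix F} (hX : InM M X) {h : Matrix α α F}
    (hh : X * lft α z = lft α z₂ * h) {A : Matrix Ix α F} {G : Matrix α α F} (hel : InM M (el JA JB z A G)) :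
    InM M (el JA JB z₂ (X * A * adj JA JA h) (h * G * adj JA JA h)) := by
  set Xs := adj (JA ⊗ₖ JB) (JA ⊗ₖ JB) X with hXs
  have hh' : phi α JB z * Xs = adj JA JA h * phi α JB z₂ := by
    rw [hXs, ← adjA_lft H.sA z, ← H.adjA_mul_iso, hh, adjA_lft_mul H.sA]
  rw [el, add_assoc, add_assoc] at hel
  have h2 := H.conj hel hX
  rw [el, adjA_mul H.sA, adj_self_adj H.sA, H.adjA_mul_iso, ← hXs]
  rw [← hXs] at h2
  convert h2 using 1
  simp only [Matrix.mul_add, Matrix.add_mul]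
  simp only [← Matrix.mul_assoc, hh]
  simp only [Matrix.mul_assoc, hh']
  abel

/-- The inverse of an element of a radical. -/
theorem OvR.el_neg {z : Fin b → F} {A : Matrix Ix α F} {G : Matrix α α F} (hA : phi α JB z * A = 0)
    (hel : InM M (el JA JB z A G)) : InM M (el JA JB z (-A) (-G + adj JA (JA ⊗ₖ JB) A * A)) := by
  refine hel.inv ?_
  rw [H.el_mul _ _ hA (by rw [Matrix.mul_neg, hA, neg_zero]), add_neg_cancel, Matrix.mul_neg, ← el_one (JA := JA) z]
  congr 1
  abel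

theorem OvR.phi_mul_lft_zero {z η : Fin b → F} (h : bf JB z η = 0) (C : Matrix α α F) :
    phi α JB z * (lft α η * C) = 0 := by
  rw [← Matrix.mul_assoc, phi_lft, h, zero_smul, Matrix.zero_mul]

/-- The difference under a transvection of the second factor. -/
theorem OvR.spread {z e : Fin b → F} {A : Matrix Ix α F} {G : Matrix α α F} (hA : phi α JB z * A = 0)
    (he : bf JB z e = 0) (c : F) (hel : InM M (el JA JB z A G)) :
    InM M (el JA JB z (lft α (c • e) * (phi α JB e * A))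
      (-(c • (adj JA JA (phi α JB e * A) * (phi α JB e * A))))) := by
  set C := phi α JB e * A with hC
  set X : Matrix Ix Ix F := (1 : Matrix α α F) ⊗ₖ (1 + c • rk JB e e) with hX
  have hXA : X * A = A + lft α (c • e) * C := by
    rw [hX, kronecker_add, one_kronecker_one, kronecker_smul, ← lft_phi, lft_smul, hC, Matrix.smul_mul,
      Matrix.add_mul, Matrix.one_mul, Matrix.smul_mul, Matrix.mul_assoc]
  have hXz : X * lft α z = lft α z * (1 : Matrix α α F) := by
    rw [hX, kron_lft, add_mulVec, one_mulVec, smul_mulVec, rk_mulVec, H.sB.zero_comm.1 he, zero_smul, smul_zero,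
      add_zero]
  have h1 := H.el_conj (H.right e c) hXz hel
  rw [adj_one H.sA.unit, Matrix.mul_one, Matrix.mul_one, Matrix.one_mul, ← hX, hXA] at h1
  have hz : phi α JB z * (lft α (c • e) * C) = 0 := H.phi_mul_lft_zero (by rw [bf_smul_right, he, mul_zero]) C
  have h2 := h1.mul (H.el_neg hA hel)
  rw [H.el_mul _ _ (by rw [Matrix.mul_add, hA, hz, add_zero]) (by rw [Matrix.mul_neg, hA, neg_zero])] at h2
  convert h2 using 2
  · abel
  · rw [adj_add, adjA_lft_mul H.sA, phi_smul, Matrix.mul_smul, Matrix.mul_neg, Matrix.add_mul, Matrix.smul_mul,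
      Matrix.mul_assoc, ← hC]
    abel

theorem OvR.inK_zero : InK JA JB M (0 : Matrix α α F) := fun z η _ =>
  ⟨0, by rw [Matrix.mul_zero, el_one]; exact InM.one⟩

theorem OvR.inK_add {C C' : Matrix α α F} (h : InK JA JB M C) (h' : InK JA JB M C') :
    InK JA JB M (C + C') := fun z η hη => by
  obtain ⟨G, hG⟩ := h z η hη
  obtain ⟨G', hG'⟩ := h' z η hη
  have := hG.mul hG'
  rw [H.el_mul _ _ (H.phi_mul_lft_zero hη C) (H.phi_mul_lft_zero hη C'), ← Matrix.mul_add] at this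
  exact ⟨_, this⟩

theorem OvR.inK_smul {C : Matrix α α F} (h : InK JA JB M C) (c : F) : InK JA JB M (c • C) := fun z η hη => by
  obtain ⟨G, hG⟩ := h z (c • η) (by rw [bf_smul_right, hη, mul_zero])
  exact ⟨G, by rwa [Matrix.mul_smul, ← Matrix.smul_mul, ← lft_smul]⟩

theorem OvR.inK_conj {C : Matrix α α F} (h : InK JA JB M C) {g : Matrix α α F}
    (hg : InM M (g ⊗ₖ (1 : Matrix (Fin b) (Fin b) F))) : InK JA JB M (g * C * adj JA JA g) := fun z η hη => by
  obtain ⟨G, hG⟩ := h z η hη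
  have := H.el_conj hg (h := g) (by rw [kron_lft, one_mulVec]) hG
  rw [← Matrix.mul_assoc (g ⊗ₖ (1 : Matrix (Fin b) (Fin b) F)) (lft α η), kron_lft, one_mulVec,
    Matrix.mul_assoc (lft α η), Matrix.mul_assoc (lft α η)] at this
  exact ⟨_, this⟩

theorem OvR.el_move {z e : Fin b → F} {C G : Matrix α α F} (hel : InM M (el JA JB z (lft α e * C) G))
    {k : Matrix (Fin b) (Fin b) F} (hk : InM M ((1 : Matrix α α F) ⊗ₖ k)) :
    InM M (el JA JB (k *ᵥ z) (lft α (k *ᵥ e) * C) G) := by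
  have := H.el_conj hk (h := 1) (by rw [kron_lft]) hel
  rwa [adj_one H.sA.unit, Matrix.mul_one, Matrix.mul_one, Matrix.one_mul, ← Matrix.mul_assoc, kron_lft,
    Matrix.mul_one] at this

/-- One middle part gives all. -/
theorem OvR.inK_of {z e : Fin b → F} (hz0 : z ≠ 0) (he : bf JB z e = 0) (hez : ∀ t : F, e ≠ t • z)
    {C G : Matrix α α F} (hel : InM M (el JA JB z (lft α e * C) G)) : InK JA JB M C := by
  intro z' η hη
  rcases eq_or_ne z' 0 with rfl | hz'
  · refine ⟨0, ?_⟩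
    rw [el, phi_zero, lft_zero, Matrix.mul_zero, Matrix.zero_mul, Matrix.mul_zero, add_zero, add_zero, add_zero]
    exact InM.one
  obtain ⟨k, hk, hku, hkz⟩ := H.right_map hz0 hz' one_ne_zero
  rw [one_smul] at hkz
  have h1 := H.el_move hel hk
  rw [hkz] at h1
  set e' := k *ᵥ e with he'
  have he'z : bf JB z' e' = 0 := by rw [← hkz, he', bf_mulVec H.sB hku, he]
  have hkinj : ∀ v, k *ᵥ v = 0 → v = 0 := fun v hv => by
    simpa [mulVec_mulVec, hku] using congrArg (adj JB JB k *ᵥ ·) hv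
  have he'' : ∀ t : F, e' ≠ t • z' := fun t ht => hez t (sub_eq_zero.1 (hkinj _ (by
    rw [mulVec_sub, mulVec_smul, hkz, ← he', ht, sub_self])))
  -- the vectors outside the line
  have key : ∀ η : Fin b → F, bf JB z' η = 0 → (∀ t : F, η ≠ t • z') →
      ∃ G, InM M (el JA JB z' (lft α η * C) G) := by
    intro η hη hη'
    obtain ⟨u, huz, hue, huη⟩ := H.sB.exists_common he'' hη'
    have hfix : ∀ (a c : Fin b → F) (μ : F), bf JB z' a = 0 → bf JB z' c = 0 → bf JB c a ≠ 0 → μ ≠ 0 →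
        ∃ k : Matrix (Fin b) (Fin b) F, InM M ((1 : Matrix α α F) ⊗ₖ k) ∧ k *ᵥ a = μ • c ∧ k *ᵥ z' = z' := by
      intro a c μ ha hc hca hμ
      obtain ⟨d, f, h⟩ := exists_move H.sB hca hμ
      refine ⟨_, ?_, h, ?_⟩
      · have := (H.right a f).mul (H.right c d)
        rwa [← mul_kronecker_mul, Matrix.one_mul] at this
      · simp only [← mulVec_mulVec, add_mulVec, one_mulVec, smul_mulVec, rk_mulVec, H.sB.zero_comm.1 ha,
          H.sB.zero_comm.1 hc, zero_smul, smul_zero, add_zero]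
    obtain ⟨k₁, hk₁, hk₁e, hk₁z⟩ := hfix e' u 1 he'z huz hue one_ne_zero
    obtain ⟨k₂, hk₂, hk₂u, hk₂z⟩ := hfix u η 1 huz hη (fun h => huη (H.sB.zero_comm.1 h)) one_ne_zero
    have h2 := H.el_move (H.el_move h1 hk₁) hk₂
    rw [hk₁z, hk₂z, hk₁e, one_smul, hk₂u, one_smul] at h2
    exact ⟨G, h2⟩
  by_cases hη' : ∀ t : F, η ≠ t • z'
  · exact key η hη hη'
  push Not at hη'
  obtain ⟨t, rfl⟩ := hη'
  obtain ⟨G₁, h₁⟩ := key (t • z' + e') (by rw [bf_add_right, hη, he'z, add_zero])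
    (fun s hs => he'' (s - t) (by rw [sub_smul, ← hs]; abel))
  obtain ⟨G₂, h₂⟩ := key ((-1 : F) • e') (by rw [bf_smul_right, he'z, mul_zero])
    (fun s hs => he'' (-s) (by rw [neg_smul, ← hs, neg_one_smul, neg_neg]))
  have := h₁.mul h₂
  rw [H.el_mul _ _ (H.phi_mul_lft_zero (by rw [bf_add_right, hη, he'z, add_zero]) C)
    (H.phi_mul_lft_zero (by rw [bf_smul_right, he'z, mul_zero]) C), ← Matrix.add_mul, ← lft_add, neg_one_smul,
    add_neg_cancel_right] at this
  exact ⟨_, this⟩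

/-- A contraction of a middle part occurs. -/
theorem OvR.inK_contract {z e : Fin b → F} {A : Matrix Ix α F} {G : Matrix α α F} (hA : phi α JB z * A = 0)
    (hel : InM M (el JA JB z A G)) (hz0 : z ≠ 0) (he : bf JB z e = 0) : InK JA JB M (phi α JB e * A) := by
  by_cases h : ∀ t : F, e ≠ t • z
  · have h1 := H.spread hA he 1 hel
    rw [one_smul] at h1
    exact H.inK_of hz0 he h h1
  push Not at h
  obtain ⟨t, rfl⟩ := h
  rw [phi_smul, Matrix.smul_mul, hA, smul_zero]
  exact H.inK_zero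

/-- Middle parts with a null norm occur exactly. -/
theorem OvR.inK_exact {C : Matrix α α F} (hC : InK JA JB M C) (hCC : adj JA JA C * C = 0) {z η : Fin b → F}
    (hη : bf JB z η = 0) (hη' : ∀ t : F, η ≠ t • z) : InM M (el JA JB z (lft α η * C) 0) := by
  obtain ⟨e, hze, -, he⟩ := H.sB.sep₁ hη'
  obtain ⟨G, hG⟩ := hC z e hze
  have h1 := H.spread (H.phi_mul_lft_zero hze C) hη (-1) hG
  rw [← Matrix.mul_assoc (phi α JB η), phi_lft, H.sB.swap e η, he, Matrix.smul_mul, Matrix.one_mul, adj_smul,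
    Matrix.smul_mul, Matrix.mul_smul (adj JA JA C), hCC, smul_zero, smul_zero, smul_zero, neg_zero, lft_smul,
    Matrix.smul_mul, Matrix.mul_smul, smul_smul] at h1
  simpa using h1

/-- A commutator of two elements with null products. -/
theorem OvR.comm₂ {A B : Matrix Ix Ix F} (hA : InM M (1 + A)) (hB : InM M (1 + B)) (hAA : A * A = 0)
    (hBB : B * B = 0) (hABA : A * B * A = 0) (hBAB : B * A * B = 0) : InM M (1 + (A * B - B * A)) := by
  have hc := ((hA.mul hB).mul (hA.neg hAA)).mul (hB.neg hBB)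
  have e : (1 + A) * (1 + B) * (1 - A) * (1 - B) - (1 + (A * B - B * A)) =
      -(A * A) - B * B + A * A * B - A * (B * B) - A * B * A + B * A * B + A * B * A * B := by
    noncomm_ring
  rw [hABA, hBAB, hAA, hBB] at e
  simp only [neg_zero, zero_mul, mul_zero, sub_zero, add_zero] at e
  rwa [sub_eq_zero.1 e] at hc

theorem OvR.adjJ_adjJ (X : Matrix Ix Ix F) :
    adj (JA ⊗ₖ JB) (JA ⊗ₖ JB) (adj (JA ⊗ₖ JB) (JA ⊗ₖ JB) X) = X := by
  rw [adj_adj H.unitJ H.unitJ (ε₁ := 1) (ε₂ := 1) (by rw [H.skewJ, one_smul]) (by rw [H.skewJ, one_smul])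
    (one_mul 1), one_mul, one_smul]

theorem OvR.adj_ct (X : Matrix Ix Ix F) (u w : Fin b → F) :
    adj JA JA (ct α JB X u w) = -ct α JB (adj (JA ⊗ₖ JB) (JA ⊗ₖ JB) X) w u := by
  rw [ct, ct, adj_mul H.unitJ, adjA_lft H.sA, adj_mul H.unitJ, H.adj_phi, Matrix.mul_neg, Matrix.mul_neg,
    Matrix.mul_assoc]

theorem OvR.isPure_adj {X : Matrix Ix Ix F} (h : IsPure (adj (JA ⊗ₖ JB) (JA ⊗ₖ JB) X)) : IsPure X := by
  obtain ⟨g, k, hgk⟩ := h
  exact ⟨adj JA JA g, adj JB JB k, by rw [← adj_kron, ← hgk, H.adjJ_adjJ]⟩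


variable [Nonempty α] (hsc : ∀ C : Matrix α α F, InK JA JB M C → ∃ c : F, C = c • (1 : Matrix α α F))
include hsc

/-- Only scalars occur in layers. -/
theorem OvR.layer_scalar {z : Fin b → F} (hz0 : z ≠ 0) {G : Matrix α α F} (hel : InM M (el JA JB z 0 G)) :
    ∃ c : F, G = c • (1 : Matrix α α F) := by
  rw [el_scalar] at hel
  obtain ⟨z', hz'⟩ := H.sB.exists_one hz0
  have halt : ∀ x, bf JA x (G *ᵥ x) = 0 := by
    intro x
    obtain ⟨y, hy, hyX⟩ := hel
    have e := H.qiso y hy (pv x z')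
    rw [hyX, add_mulVec, one_mulVec, kron_pv, rk_mulVec, hz', one_smul, H.qpolar, H.qpure, H.qpure, bf_pv] at e
    have : bf JB z' z ≠ 0 := fun h => one_ne_zero (hz'.symm.trans (H.sB.zero_comm.1 h))
    exact (mul_eq_zero.1 (by linear_combination e : bf JA x (G *ᵥ x) * bf JB z' z = 0)).resolve_right this
  have hadj : adj JA JA G = G := ext_bf H.sA fun u v => by
    rw [bf_adj H.sA]
    have h1 := halt (u + v)
    rw [mulVec_add, bf_add_left, bf_add_right, bf_add_right, halt, halt, H.sA.swap (G *ᵥ u) v] at h1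
    linear_combination h1
  have hall : ∀ w : Fin b → F, InM M (1 + G ⊗ₖ rk JB w w) := by
    intro w
    rcases eq_or_ne w 0 with rfl | hw0
    · rw [rk_zero_left, kronecker_zero, add_zero]; exact InM.one
    obtain ⟨k, hk, -, hkz⟩ := H.right_map hz0 hw0 one_ne_zero
    have := H.conj_kron hel hk
    rwa [rk_conj H.sB, hkz, one_smul, Matrix.one_mul, adj_one H.sA.unit, Matrix.mul_one] at this
  refine hsc G fun w η hη => ⟨0, ?_⟩
  have hsq : ∀ w : Fin b → F, (G ⊗ₖ rk JB w w) * (G ⊗ₖ rk JB w w) = 0 := fun w => by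
    rw [← mul_kronecker_mul, rk_mul, H.sB.self, zero_smul, kronecker_zero]
  have := ((hall (w + η)).mul ((hall w).neg (hsq w))).mul ((hall η).neg (hsq η))
  rw [el_lft H.sA, hadj, zero_kronecker, add_zero]
  convert this using 1
  have hη' := H.sB.zero_comm.1 hη
  simp only [rk_add_left, rk_add_right, kronecker_add, Matrix.mul_sub, Matrix.sub_mul, Matrix.add_mul, Matrix.mul_add,
    Matrix.one_mul, Matrix.mul_one, ← mul_kronecker_mul, rk_mul, H.sB.self, hη, hη', zero_smul, kronecker_zero,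
    Matrix.zero_mul]
  abel

/-- Middle parts come from the second factor up to the centre. -/
theorem OvR.el_contract {z ξ : Fin b → F} (hz0 : z ≠ 0) {A : Matrix Ix α F} {G : Matrix α α F}
    (hA : phi α JB z * A = 0) (hel : InM M (el JA JB z A G)) (hξ : bf JB z ξ = 0) :
    ∃ c : F, phi α JB ξ * A = c • (1 : Matrix α α F) :=
  hsc _ (H.inK_contract hA hel hz0 hξ)


/-- An element mapping a layer to a layer maps the neighbouring layers to layers. -/
theorem OvR.layer_image {z z₂ : Fin b → F} (hz0 : z ≠ 0) (hz₂0 : z₂ ≠ 0) {X : Matrix Ix Ix F} (hX : InM M X)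
    {h : Matrix α α F} (hh : X * lft α z = lft α z₂ * h) (hdet : IsUnit h.det) {η : Fin b → F}
    (hη : bf JB z η = 0) : ∃ u : Fin b → F, X * lft α η = lft α u * h := by
  by_cases hηz : ∀ t : F, η ≠ t • z
  swap
  · push Not at hηz
    obtain ⟨t, rfl⟩ := hηz
    exact ⟨t • z₂, by rw [lft_smul, lft_smul, Matrix.mul_smul, hh, Matrix.smul_mul]⟩
  obtain ⟨i⟩ := ‹Nonempty α›
  set J := JA ⊗ₖ JB with hJ
  -- a scalar product
  obtain ⟨μ, hμ⟩ : ∃ μ : F, h * adj JA JA h = μ • (1 : Matrix α α F) := by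
    have h1 : InM M (el JA JB z 0 1) := by
      have := H.right z 1
      rwa [one_smul, kronecker_add, one_kronecker_one, ← el_scalar (JA := JA)] at this
    have h2 := H.el_conj hX hh h1
    rw [Matrix.mul_zero, Matrix.zero_mul, Matrix.mul_one] at h2
    exact H.layer_scalar hsc hz₂0 h2
  have hμ0 : μ ≠ 0 := by
    intro h0
    have := congrArg Matrix.det hμ
    rw [h0, zero_smul, det_mul, adj_det H.sA.unit, det_zero] at this
    exact (hdet.mul hdet).ne_zero this
  have hμ' : adj JA JA h * h = μ • (1 : Matrix α α F) := by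
    have e : (μ⁻¹ • adj JA JA h) * h = 1 := mul_eq_one_comm.1 (by
      rw [Matrix.mul_smul, hμ, smul_smul, inv_mul_cancel₀ hμ0, one_smul])
    rw [Matrix.smul_mul] at e
    rw [← e, smul_smul, mul_inv_cancel₀ hμ0, one_smul]
  have hh' : phi α JB z * adj J J X = adj JA JA h * phi α JB z₂ := by
    rw [← adjA_lft H.sA z, ← H.adjA_mul_iso, hh, adjA_lft_mul H.sA]
  -- the middle part
  set A := X * lft α η * adj JA JA h with hA
  have hel : InM M (el JA JB z₂ A 0) := by
    have h1 := H.root (α := α) hη 0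
    rw [nil, zero_smul, add_zero, kronecker_add, ← add_assoc] at h1
    have h2 := H.el_conj hX hh (A := lft α η * (1 : Matrix α α F)) (G := 0) (by
      rw [el_lft H.sA, adj_one H.sA.unit, zero_kronecker, add_zero]; exact h1)
    rwa [Matrix.mul_one, Matrix.mul_zero, Matrix.zero_mul, ← hA] at h2
  have hzA : phi α JB z₂ * A = 0 := by
    have e : adj JA JA h * (phi α JB z₂ * A) = 0 := by
      rw [← Matrix.mul_assoc, ← hh', hA, Matrix.mul_assoc (phi α JB z), ← Matrix.mul_assoc (adj J J X),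
        ← Matrix.mul_assoc (adj J J X), H.unit hX, Matrix.one_mul, ← Matrix.mul_assoc, phi_lft, hη, zero_smul,
        Matrix.zero_mul]
    have := congrArg (h * ·) e
    rw [← Matrix.mul_assoc, hμ, Matrix.mul_zero, Matrix.smul_mul, Matrix.one_mul, smul_eq_zero] at this
    exact this.resolve_left hμ0
  clear_value A
  obtain ⟨z', hz'⟩ := H.sB.exists_one (u := -z₂) (neg_ne_zero.2 hz₂0)
  have hz'2 : bf JB z' z₂ = 1 := by
    rw [H.sB.swap z₂ z', ← hz', ← neg_one_smul F z₂, bf_smul_left, neg_one_mul]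
  set K := phi α JB z' * A with hK
  obtain ⟨u, hu⟩ := eq_lft (A - lft α z₂ * K) fun φ => by
    set ξ := φ ᵥ* JB⁻¹ with hξ
    have hξ₀ : bf JB z₂ (ξ - bf JB ξ z₂ • z') = 0 := by
      rw [H.sB.zero_comm, bf_sub_left, bf_smul_left, hz'2, mul_one, sub_self]
    obtain ⟨c, hc⟩ := H.el_contract hsc hz₂0 hzA hel hξ₀
    refine ⟨c, ?_⟩
    rw [← hc, ← phi_eq_rgt H.sB φ, ← hξ, sub_eq_add_neg ξ, phi_add, ← neg_smul, phi_smul, Matrix.mul_sub,
      ← Matrix.mul_assoc, phi_lft, hK, Matrix.add_mul, Matrix.smul_mul, Matrix.smul_mul, Matrix.one_mul, neg_smul,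
      sub_eq_add_neg]
  have hsum : A = lft α u + lft α z₂ * K := eq_add_of_sub_eq hu
  have hu0 : bf JB z₂ u = 0 := by
    have := congrArg (phi α JB z₂ * ·) hu
    rw [Matrix.mul_sub, hzA, ← Matrix.mul_assoc, phi_lft, phi_lft, H.sB.self, zero_smul, Matrix.zero_mul,
      sub_zero] at this
    simpa using (congrFun (congrFun this i) i).symm
  have hXh : X * lft α η = μ⁻¹ • (A * h) := by
    rw [hA, Matrix.mul_assoc (X * lft α η), hμ', Matrix.mul_smul, Matrix.mul_one, smul_smul, inv_mul_cancel₀ hμ0,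
      one_smul]
  have huz : ∀ t : F, u ≠ t • z₂ := by
    rintro t rfl
    have hinj : lft α η = lft α z * ((μ⁻¹ * μ⁻¹) • (adj JA JA h * ((t • (1 : Matrix α α F) + K) * h))) := by
      have e : X * lft α η = X * (lft α z * ((μ⁻¹ * μ⁻¹) • (adj JA JA h * ((t • (1 : Matrix α α F) + K) * h)))) := by
        rw [hXh, hsum, lft_smul, Matrix.mul_smul, Matrix.mul_smul, ← Matrix.mul_assoc X, hh, Matrix.mul_assoc (lft α z₂),
          ← Matrix.mul_assoc h, hμ, Matrix.smul_mul, Matrix.one_mul, Matrix.mul_smul, smul_smul, Matrix.add_mul,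
          Matrix.add_mul, Matrix.mul_add, Matrix.smul_mul, Matrix.smul_mul, Matrix.one_mul, Matrix.mul_smul,
          Matrix.mul_assoc (lft α z₂) K]
        rw [mul_assoc, inv_mul_cancel₀ hμ0, mul_one]
      have := congrArg (adj J J X * ·) e
      rwa [← Matrix.mul_assoc, ← Matrix.mul_assoc, H.unit hX, Matrix.one_mul, Matrix.one_mul] at this
    obtain ⟨e, -, hez, heη⟩ := H.sB.sep₁ hηz
    have := congrArg (phi α JB e * ·) hinj
    rw [phi_lft, ← Matrix.mul_assoc, phi_lft, hez, heη, zero_smul, one_smul, Matrix.zero_mul] at this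
    exact one_ne_zero this
  have hel2 : InM M (el JA JB z₂ (lft α u * (μ⁻¹ • adj JA JA K)) (μ⁻¹ • (K * adj JA JA K))) := by
    have h1 : InM M (1 + lft α η * phi α JB η) := by
      have := H.right (α := α) η 1
      rwa [one_smul, kronecker_add, one_kronecker_one, ← lft_phi] at this
    have h2 := H.conj h1 hX
    rw [← hJ, ← Matrix.mul_assoc X, Matrix.mul_assoc (X * lft α η), ← adjA_lft H.sA η, ← H.adjA_mul_iso, hXh,
      adjA_smul, adjA_mul H.sA, Matrix.smul_mul, Matrix.mul_smul, smul_smul, Matrix.mul_assoc A h,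
      ← Matrix.mul_assoc h, hμ, Matrix.smul_mul, Matrix.one_mul, Matrix.mul_smul, smul_smul, mul_assoc,
      inv_mul_cancel₀ hμ0, mul_one] at h2
    have h3 : InM M (1 - μ⁻¹ • (lft α u * phi α JB u)) := by
      have := H.right (α := α) u (-μ⁻¹)
      rw [kronecker_add, one_kronecker_one, kronecker_smul, ← lft_phi, neg_smul] at this
      rwa [sub_eq_add_neg]
    have h4 := h3.mul h2
    convert h4 using 1
    have k0 : ∀ T : Matrix α Ix F, phi α JB u * (lft α u * T) = 0 := fun T => by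
      rw [← Matrix.mul_assoc, phi_lft, H.sB.self, zero_smul, Matrix.zero_mul]
    have k1 : ∀ T : Matrix α Ix F, phi α JB u * (lft α z₂ * T) = 0 := fun T => by
      rw [← Matrix.mul_assoc, phi_lft, H.sB.zero_comm.1 hu0, zero_smul, Matrix.zero_mul]
    rw [el, adjA_lft_mul H.sA, adj_smul, adj_self_adj H.sA, hsum, adj_add, adjA_lft H.sA, adjA_lft_mul H.sA]
    simp only [Matrix.mul_add, Matrix.add_mul, Matrix.sub_mul, Matrix.smul_mul, Matrix.mul_smul, Matrix.mul_assoc,
      k0, k1, Matrix.one_mul, Matrix.mul_one, Matrix.mul_zero, smul_zero, smul_add, sub_zero, add_zero]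
    abel
  obtain ⟨k, hk⟩ := hsc _ (H.inK_of hz₂0 hu0 huz hel2)
  have hK' : K = (μ * k) • (1 : Matrix α α F) := by
    have := congrArg (fun Z => adj JA JA (μ • Z)) hk
    simp only [smul_smul, mul_inv_cancel₀ hμ0, one_smul, adj_self_adj H.sA, adj_smul, adj_one H.sA.unit] at this
    exact this
  refine ⟨μ⁻¹ • (u + (μ * k) • z₂), ?_⟩
  rw [hXh, hsum, hK', Matrix.mul_smul, Matrix.mul_one, lft_smul, lft_add, lft_smul, Matrix.smul_mul]

/-- An element mapping a layer to a layer is a pure tensor. -/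
theorem OvR.pure_of_layer {z z₂ : Fin b → F} (hz0 : z ≠ 0) (hz₂0 : z₂ ≠ 0) {X : Matrix Ix Ix F} (hX : InM M X)
    {h : Matrix α α F} (hh : X * lft α z = lft α z₂ * h) (hdet : IsUnit h.det) : IsPure X := by
  obtain ⟨i⟩ := ‹Nonempty α›
  obtain ⟨z', hz'⟩ := H.sB.exists_one hz0
  obtain ⟨η₀, hη₀0, hp⟩ := exists_perp (J := JB) ![z, z'] (by simp; have := H.six; omega)
  have hzη : bf JB z η₀ = 0 := hp 0
  have hz'η : bf JB η₀ z' = 0 := H.sB.zero_comm.1 (hp 1)
  obtain ⟨f₀, hf₀⟩ := H.layer_image hsc hz0 hz₂0 hX hh hdet hzη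
  have hf₀0 : f₀ ≠ 0 := by
    intro h0
    rw [h0, lft_zero, Matrix.zero_mul] at hf₀
    have := congrArg (adj (JA ⊗ₖ JB) (JA ⊗ₖ JB) X * ·) hf₀
    rw [← Matrix.mul_assoc, H.unit hX, Matrix.one_mul, Matrix.mul_zero] at this
    obtain ⟨k, hk⟩ := Function.ne_iff.1 hη₀0
    exact hk (by simpa [lft_apply] using congrFun (congrFun this (i, k)) i)
  have hall : ∀ v : Fin b → F, ∃ u : Fin b → F, X * lft α v = lft α u * h := by
    intro v
    obtain ⟨u₁, hu₁⟩ := H.layer_image hsc hz0 hz₂0 hX hh hdet (η := v - bf JB z v • z')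
      (by rw [bf_sub_right, bf_smul_right, hz']; ring)
    obtain ⟨u₂, hu₂⟩ := H.layer_image hsc hη₀0 hf₀0 hX hf₀ hdet (η := bf JB z v • z')
      (by rw [bf_smul_right, hz'η, mul_zero])
    refine ⟨u₁ + u₂, ?_⟩
    rw [lft_add, Matrix.add_mul, ← hu₁, ← hu₂, ← Matrix.mul_add, ← lft_add, sub_add_cancel]
  choose f hf using hall
  refine ⟨h, Matrix.of fun k l => f (Pi.single l 1) k, ?_⟩
  ext ⟨j, k⟩ ⟨i', l⟩
  have e := congrFun (congrFun (hf (Pi.single l 1)) (j, k)) i'
  rw [mul_lft_single] at e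
  rw [e]
  simp only [Matrix.mul_apply, lft_apply, kroneckerMap_apply, Matrix.of_apply]
  rw [Finset.sum_eq_single j (fun c _ hc => by simp [Ne.symm hc]) (by simp)]
  simp [mul_comm]

/-- Contractions of elements that are not pure do not vanish. -/
theorem OvR.ct_ne {X : Matrix Ix Ix F} (hX : InM M X) (hnp : ¬ IsPure X) {x₁ z : Fin b → F} (hx0 : x₁ ≠ 0)
    (hz0 : z ≠ 0) : ct α JB X x₁ z ≠ 0 := by
  intro hzero
  obtain ⟨i⟩ := ‹Nonempty α›
  set J := JA ⊗ₖ JB with hJ
  set Y := adj J J X * lft α x₁ with hY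
  set K := phi α JB x₁ * X with hK
  have hKz : K * lft α z = 0 := hzero
  have hKY : adj JA J Y = K := by rw [hY, H.adjA_mul_iso, adjA_lft H.sA, H.adjJ_adjJ]
  have hYinj : ∀ T : Matrix α α F, Y * T = 0 → T = 0 := fun T hT => by
    have e := congrArg (X * ·) hT
    rw [hY, ← Matrix.mul_assoc, ← Matrix.mul_assoc, H.unit' hX, Matrix.one_mul, Matrix.mul_zero] at e
    exact lft_injective hx0 (e.trans (Matrix.mul_zero _).symm)
  set S := (1 : Matrix Ix Ix F) + Y * K with hS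
  have hSM : InM M S := by
    have h1 : InM M (1 + lft α x₁ * phi α JB x₁) := by
      have := H.right (α := α) x₁ 1
      rwa [one_smul, kronecker_add, one_kronecker_one, ← lft_phi] at this
    have h2 := H.conj h1 (H.inv hX)
    rwa [H.adjJ_adjJ, ← hJ, ← Matrix.mul_assoc (adj J J X), Matrix.mul_assoc, ← hY, ← hK] at h2
  have hSz : S * lft α z = lft α z * (1 : Matrix α α F) := by
    rw [hS, Matrix.add_mul, Matrix.one_mul, Matrix.mul_one, Matrix.mul_assoc, hKz, Matrix.mul_zero, add_zero]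
  have hkey : ∀ η η' : Fin b → F, bf JB z η = 0 →
      ∃ c : F, (phi α JB η' * Y) * (K * lft α η) = c • (1 : Matrix α α F) := by
    intro η η' hη
    obtain ⟨u, hu⟩ := H.layer_image hsc hz0 hz0 hSM hSz (by simp) hη
    refine ⟨bf JB η' u - bf JB η' η, ?_⟩
    have e := congrArg (phi α JB η' * ·) hu
    simp only [Matrix.mul_one, hS, Matrix.add_mul, Matrix.one_mul, Matrix.mul_add, phi_lft] at e
    rw [sub_smul, ← e, add_sub_cancel_left]
    simp only [Matrix.mul_assoc]
  have hKv : ∀ v : Fin b → F, K * lft α v = -adj JA JA (phi α JB v * Y) := fun v => by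
    rw [adj_mul H.unitJ, H.adj_phi, ← hJ, hKY, Matrix.mul_neg, neg_neg]
  obtain ⟨L₀, hL⟩ : ∃ L₀ : Matrix α α F, ∀ v : Fin b → F, ∃ c : F, K * lft α v = c • L₀ := by
    obtain ⟨z', hz'⟩ := H.sB.exists_one hz0
    by_cases hall : ∀ η, bf JB z η = 0 → K * lft α η = 0
    · refine ⟨K * lft α z', fun v => ⟨bf JB z v, ?_⟩⟩
      have := hall (v - bf JB z v • z') (by rw [bf_sub_right, bf_smul_right, hz']; ring)
      rw [sub_eq_add_neg, ← neg_smul, lft_add, lft_smul, Matrix.mul_add, Matrix.mul_smul, neg_smul,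
        add_neg_eq_zero] at this
      exact this
    push Not at hall
    obtain ⟨η, hη, hη0⟩ := hall
    have hinv : IsUnit (K * lft α η).det := by
      obtain ⟨k, hk⟩ : ∃ k : Fin b, phi α JB (Pi.single k (1 : F) ᵥ* JB⁻¹) * (Y * (K * lft α η)) ≠ 0 := by
        by_contra hc
        push Not at hc
        refine hη0 (hYinj _ ?_)
        ext ⟨j, k⟩ l
        have := congrFun (congrFun (hc k) j) l
        rwa [phi_eq_rgt H.sB, rgt_single_mul] at this
      obtain ⟨c, hc⟩ := hkey η (Pi.single k (1 : F) ᵥ* JB⁻¹) hη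
      rw [Matrix.mul_assoc] at hc
      have hc0 : c ≠ 0 := fun h0 => hk (by rw [hc, h0, zero_smul])
      rw [← Matrix.mul_assoc] at hc
      have := congrArg Matrix.det hc
      rw [det_mul, det_smul, det_one, mul_one] at this
      exact IsUnit.mk0 _ (right_ne_zero_of_mul (this ▸ pow_ne_zero _ hc0))
    refine ⟨adj JA JA (K * lft α η)⁻¹, fun v => ?_⟩
    obtain ⟨c, hc⟩ := hkey η v hη
    refine ⟨-c, ?_⟩
    have e := congrArg (· * (K * lft α η)⁻¹) hc
    simp only [Matrix.mul_nonsing_inv_cancel_right _ _ hinv, Matrix.smul_mul, Matrix.one_mul] at e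
    rw [hKv, e, adj_smul, neg_smul]
  have hL0 : IsUnit L₀.det := by
    rw [isUnit_iff_ne_zero]
    intro hdet
    obtain ⟨a, ha, haL⟩ := (Matrix.exists_vecMul_eq_zero_iff (M := L₀)).2 hdet
    have haK : a ᵥ* K = 0 := by
      funext ⟨j, k⟩
      obtain ⟨c, hc⟩ := hL (Pi.single k 1)
      have : a ᵥ* (K * lft α (Pi.single k (1 : F))) = 0 := by rw [hc, vecMul_smul, haL, smul_zero]
      have := congrFun this j
      simpa [vecMul, dotProduct, mul_lft_single] using this
    obtain ⟨x', hx'⟩ := H.sB.exists_one hx0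
    have := congrArg (· ᵥ* (adj J J X * lft α x')) haK
    simp only [vecMul_vecMul, zero_vecMul] at this
    rw [hK, Matrix.mul_assoc, ← Matrix.mul_assoc X, H.unit' hX, Matrix.one_mul, phi_lft, hx', one_smul,
      vecMul_one] at this
    exact ha this
  obtain ⟨ψ, hψ⟩ := eq_rgt (L₀⁻¹ * K) fun v => by
    obtain ⟨c, hc⟩ := hL v
    exact ⟨c, by rw [Matrix.mul_assoc, hc, Matrix.mul_smul, Matrix.nonsing_inv_mul _ hL0]⟩
  set ψ' := ψ ᵥ* JB⁻¹ with hψ'
  have hKψ : K = L₀ * phi α JB ψ' := by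
    rw [hψ', phi_eq_rgt H.sB, ← hψ, ← Matrix.mul_assoc, Matrix.mul_nonsing_inv _ hL0, Matrix.one_mul]
  have hlay : adj J J X * lft α x₁ = lft α ψ' * adj JA JA L₀ := by
    have := congrArg (adj J JA) hKψ
    rw [← hKY, H.adj_down, adj_mul H.sA.unit, H.adj_phi, Matrix.neg_mul, neg_inj] at this
    exact hY ▸ this
  have hdetL : IsUnit (adj JA JA L₀).det := by rw [adj_det H.sA.unit]; exact hL0
  have hψ0 : ψ' ≠ 0 := fun h0 => by
    rw [h0, lft_zero, Matrix.zero_mul] at hlay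
    have := congrArg (X * ·) hlay
    rw [← Matrix.mul_assoc, H.unit' hX, Matrix.one_mul, Matrix.mul_zero] at this
    obtain ⟨k, hk⟩ := Function.ne_iff.1 hx0
    exact hk (by simpa [lft_apply] using congrFun (congrFun this (i, k)) i)
  exact hnp (H.isPure_adj (H.pure_of_layer hsc hx0 hψ0 (H.inv hX) hlay hdetL))


end Cfsg.Agent.H5.C7.Even
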